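import Groth.Agent.WDiv.K654.PolyCrit
import Mathlib.Algebra.MvPolynomial.Division
import Mathlib.Algebra.MvPolynomial.Eval
import Mathlib.RingTheory.IsTensorProduct

/-!
# Linear forms with an invertible coefficient are universally regular; coordinates on affine spaces

* `K479.CutAlg`: for `c : ι → R` with `c j = 1`, multiplication by `∑ i, c i * T i` on `R[T]` has an `R`-linear left
  inverse, hence it is injective on `N ⊗ R[T]` for every `R`-module `N`.
* `K479.PolyCoord.exists_equiv_coord`: the functions on `A^n_U` for `U ⊆ X` affine open, with the coordinates.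
-/

set_option autoImplicit false
universe u

section Alg



open MvPolynomial TensorProduct

namespace K479.CutAlg

section Poly

variable {ι R : Type*} [CommRing R] [Fintype ι]

/-- The linear form `∑ i, c i * T i`. -/
noncomputable def lf (c : ι → R) : MvPolynomial ι R := ∑ i, C (c i) * X i

variable [DecidableEq ι]

/-- The substitution `T j ↦ ∑ i, c i * T i`. -/
noncomputable def subst (c : ι → R) (j : ι) : MvPolynomial ι R →ₐ[R] MvPolynomial ι R :=
  aeval fun i => if i = j then lf c else X i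

/-- The substitution `T j ↦ 2 * T j - ∑ i, c i * T i`. -/
noncomputable def subst' (c : ι → R) (j : ι) : MvPolynomial ι R →ₐ[R] MvPolynomial ι R :=
  aeval fun i => if i = j then X j + X j - lf c else X i

theorem lf_eq (c : ι → R) (j : ι) (hj : c j = 1) :
    lf c = X j + ∑ i ∈ Finset.univ.erase j, C (c i) * X i := by
  rw [lf, ← Finset.add_sum_erase _ _ (Finset.mem_univ j), hj, C_1, one_mul]

theorem map_erase (c : ι → R) (j : ι) (p : MvPolynomial ι R) :
    (aeval (fun i => if i = j then p else X i) : MvPolynomial ι R →ₐ[R] MvPolynomial ι R)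
      (∑ i ∈ Finset.univ.erase j, C (c i) * X i) = ∑ i ∈ Finset.univ.erase j, C (c i) * X i := by
  rw [map_sum]
  refine Finset.sum_congr rfl fun i hi => ?_
  rw [map_mul, aeval_X, if_neg (Finset.ne_of_mem_erase hi)]
  congr 1
  exact aeval_C _ _

theorem subst'_lf (c : ι → R) (j : ι) (hj : c j = 1) : subst' c j (lf c) = X j := by
  rw [lf_eq c j hj, map_add]
  unfold subst'
  rw [map_erase c, aeval_X, if_pos rfl]
  rw [lf_eq c j hj]
  ring

theorem subst_subst' (c : ι → R) (j : ι) (hj : c j = 1) (f : MvPolynomial ι R) :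
    subst c j (subst' c j f) = f := by
  have : (subst c j).comp (subst' c j) = AlgHom.id R _ := by
    ext i : 1
    rw [AlgHom.comp_apply]
    by_cases h : i = j
    · subst h
      have h1 : subst' c i (X i) = X i + X i - lf c := by
        unfold subst'
        rw [aeval_X, if_pos rfl]
      have h2 : subst c i (X i) = lf c := by
        unfold subst
        rw [aeval_X, if_pos rfl]
      have h3 : subst c i (lf c) = lf c + ∑ k ∈ Finset.univ.erase i, C (c k) * X k := by
        conv_lhs => rw [lf_eq c i hj, map_add, h2]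
        congr 1
        unfold subst
        exact map_erase c i _
      rw [h1, map_sub, map_add, h2, h3, AlgHom.id_apply]
      conv_lhs => rw [lf_eq c i hj]
      ring
    · have h1 : subst' c j (X i) = X i := by
        unfold subst'
        rw [aeval_X, if_neg h]
      rw [h1]
      unfold subst
      rw [aeval_X, if_neg h, AlgHom.id_apply]
  exact DFunLike.congr_fun this f

/-- Division by `T j`. -/
noncomputable def divX (j : ι) : MvPolynomial ι R →ₗ[R] MvPolynomial ι R where
  toFun f := f.divMonomial (Finsupp.single j 1)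
  map_add' f g := add_divMonomial _ _ _
  map_smul' a f := by
    ext m
    rw [coeff_divMonomial, RingHom.id_apply, coeff_smul, coeff_smul, coeff_divMonomial]

omit [Fintype ι] [DecidableEq ι] in
theorem divX_X_mul (j : ι) (f : MvPolynomial ι R) : divX j (X j * f) = f :=
  X_mul_divMonomial _ _

/-- Multiplication by a linear form with a coefficient `1` has a linear left inverse. -/
theorem exists_leftInverse (c : ι → R) (j : ι) (hj : c j = 1) :
    ∃ Λ : MvPolynomial ι R →ₗ[R] MvPolynomial ι R, ∀ f, Λ (lf c * f) = f := by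
  refine ⟨(subst c j).toLinearMap ∘ₗ divX j ∘ₗ (subst' c j).toLinearMap, fun f => ?_⟩
  rw [LinearMap.comp_apply, LinearMap.comp_apply, AlgHom.toLinearMap_apply, AlgHom.toLinearMap_apply,
    map_mul, subst'_lf c j hj, divX_X_mul, subst_subst' c j hj]

omit [DecidableEq ι] in
/-- The same for a ring isomorphic to a polynomial ring. -/
theorem exists_leftInverse_of_equiv {S : Type*} [CommRing S] [Algebra R S] (e : MvPolynomial ι R ≃+* S)
    (he : ∀ a, e (C a) = algebraMap R S a) (c : ι → R) (j : ι) (hj : c j = 1) :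
    ∃ Λ : S →ₗ[R] S, ∀ s, Λ ((∑ i, algebraMap R S (c i) * e (X i)) * s) = s := by
  classical
  obtain ⟨Λ, hΛ⟩ := exists_leftInverse c j hj
  have hsm : ∀ (a : R) (f : MvPolynomial ι R), e (a • f) = a • e f := fun a f => by
    rw [Algebra.smul_def, Algebra.smul_def, map_mul, ← he]
    rfl
  have hsm' : ∀ (a : R) (s : S), e.symm (a • s) = a • e.symm s := fun a s => by
    apply e.injective
    rw [hsm, e.apply_symm_apply, e.apply_symm_apply]
  refine ⟨{ toFun := fun s => e (Λ (e.symm s))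
            map_add' := fun a b => by rw [map_add, map_add, map_add]
            map_smul' := fun a s => by rw [hsm', map_smul, hsm, RingHom.id_apply] }, fun s => ?_⟩
  change e (Λ (e.symm _)) = s
  have h1 : e.symm ((∑ i, algebraMap R S (c i) * e (X i)) * s) = lf c * e.symm s := by
    apply e.injective
    rw [e.apply_symm_apply, map_mul, e.apply_symm_apply]
    congr 1
    rw [lf, map_sum]
    exact Finset.sum_congr rfl fun i _ => by rw [map_mul, he]
  rw [h1, hΛ, e.apply_symm_apply]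

end Poly

section BaseChange

variable {R S N P Q : Type*} [CommRing R] [CommRing S] [Algebra R S] [AddCommGroup N] [Module R N]
  [AddCommGroup P] [Module S P] [Module R P] [IsScalarTower R S P]
  [AddCommGroup Q] [Module S Q] [Module R Q] [IsScalarTower R S Q]

/-- A linear map which on a base change is the multiplication by an element having a linear left inverse is
injective. -/
theorem injective_of_leftInverse {σ : S} (h : ∃ Λ : S →ₗ[R] S, ∀ s, Λ (σ * s) = s) {α : N →ₗ[R] P}
    (hα : IsBaseChange S α) {β : N →ₗ[R] Q} (hβ : IsBaseChange S β) (φ : P →ₗ[S] Q)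
    (hφ : ∀ n, φ (α n) = σ • β n) : Function.Injective φ := by
  obtain ⟨Λ, hΛ⟩ := h
  have key : ∀ t : S ⊗[R] N, φ (hα.equiv t) = hβ.equiv (σ • t) := by
    intro t
    induction t using TensorProduct.induction_on with
    | zero => simp
    | tmul s n =>
      rw [hα.equiv_tmul, map_smul, hφ, TensorProduct.smul_tmul', hβ.equiv_tmul, smul_comm, smul_smul,
        smul_eq_mul]
    | add a b ha hb => rw [map_add, map_add, ha, hb, smul_add, map_add]
  have hL : ∀ t : S ⊗[R] N, Λ.rTensor N (σ • t) = t := by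
    intro t
    induction t using TensorProduct.induction_on with
    | zero => simp
    | tmul s n =>
      rw [TensorProduct.smul_tmul', LinearMap.rTensor_tmul, smul_eq_mul, hΛ]
    | add a b ha hb => rw [smul_add, map_add, ha, hb]
  rw [injective_iff_map_eq_zero]
  intro p hp
  obtain ⟨t, rfl⟩ := hα.equiv.surjective p
  rw [key, hβ.equiv.map_eq_zero_iff] at hp
  rw [← hL t, hp, map_zero, map_zero]

end BaseChange

end K479.CutAlg

end Alg

section Coord



open CategoryTheory AlgebraicGeometry TopologicalSpace CategoryTheory.Limits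

namespace K479.PolyCoord

open K654.PolyMap

/-- A morphism which over an affine open is the spectrum of a polynomial ring; the identification of the rings of
functions is the inverse of the pull-back to the polynomial ring. -/
theorem exists_equiv_of_square {σ : Type u} {X Y : Scheme.{u}} (q : Y ⟶ X) {U : X.Opens} (hU : IsAffineOpen U)
    (j : Spec (CommRingCat.of (MvPolynomial σ Γ(X, U))) ⟶ Y)
    (hj : IsPullback j (Spec.map (CommRingCat.ofHom MvPolynomial.C)) q hU.fromSpec) :
    ∃ e : MvPolynomial σ Γ(X, U) ≃+* Γ(Y, q ⁻¹ᵁ U), (∀ a, e (MvPolynomial.C a) = (q.app U).hom a) ∧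
      ∀ (p : MvPolynomial σ Γ(X, U)) (s : Γ(Y, ⊤)), j.appTop s = (Scheme.ΓSpecIso _).inv p →
        e p = Y.presheaf.map (homOfLE (le_top : q ⁻¹ᵁ U ≤ ⊤)).op s := by
  obtain ⟨h1, h2, -⟩ := isAffineOpen_of_square q hU j _ hj
  have hle : (⊤ : (Spec (CommRingCat.of (MvPolynomial σ Γ(X, U)))).Opens) ≤ j ⁻¹ᵁ (q ⁻¹ᵁ U) := by
    rw [← h2]
    intro z _
    exact ⟨z, rfl⟩
  have htop : j ⁻¹ᵁ (q ⁻¹ᵁ U) = ⊤ := top_le_iff.mp hle
  let e' : Γ(Y, q ⁻¹ᵁ U) ⟶ CommRingCat.of (MvPolynomial σ Γ(X, U)) :=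
    j.appLE (q ⁻¹ᵁ U) ⊤ hle ≫ (Scheme.ΓSpecIso _).hom
  have hiso : IsIso e' := by
    have h3 : IsIso (j.app (q ⁻¹ᵁ U)) := j.isIso_app _ h2.ge
    have h4 : j.appLE (q ⁻¹ᵁ U) ⊤ hle = j.app (q ⁻¹ᵁ U) ≫
      (Spec (CommRingCat.of (MvPolynomial σ Γ(X, U)))).presheaf.map (eqToHom htop.symm).op := rfl
    have h5 : IsIso (j.appLE (q ⁻¹ᵁ U) ⊤ hle) := by
      rw [h4]
      infer_instance
    infer_instance
  have hcomp : q.app U ≫ e' = CommRingCat.ofHom MvPolynomial.C := by
    have h6 : q.app U ≫ j.appLE (q ⁻¹ᵁ U) ⊤ hle = (j ≫ q).appLE U ⊤ hle :=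
      (Scheme.Hom.comp_appLE j q U ⊤ hle).symm
    have hle2 : (⊤ : (Spec Γ(X, U)).Opens) ≤ hU.fromSpec ⁻¹ᵁ U := by
      rw [hU.fromSpec_preimage_self]
    have h7 : hU.fromSpec.appLE U ⊤ hle2 ≫ (Scheme.ΓSpecIso Γ(X, U)).hom = 𝟙 _ := by
      have h8 : hU.fromSpec.appLE U ⊤ hle2 = hU.fromSpec.app U ≫
        (Spec Γ(X, U)).presheaf.map (eqToHom hU.fromSpec_preimage_self.symm).op := rfl
      rw [h8, hU.fromSpec_app_self, Category.assoc, Category.assoc, ← Functor.map_comp_assoc]
      simp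
    have h9 : ∀ (w : Spec (CommRingCat.of (MvPolynomial σ Γ(X, U))) ⟶ X) (hw : j ≫ q = w)
      (hle3 : (⊤ : (Spec (CommRingCat.of (MvPolynomial σ Γ(X, U)))).Opens) ≤ w ⁻¹ᵁ U),
      (j ≫ q).appLE U ⊤ hle = w.appLE U ⊤ hle3 := by
      rintro w rfl hle3
      rfl
    have hle4 : (⊤ : (Spec (CommRingCat.of (MvPolynomial σ Γ(X, U)))).Opens) ≤
        (Spec.map (CommRingCat.ofHom (MvPolynomial.C :
        Γ(X, U) →+* MvPolynomial σ Γ(X, U))) ≫ hU.fromSpec) ⁻¹ᵁ U := by
      rw [← hj.w]
      exact hle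
    have h10 : (Spec.map (CommRingCat.ofHom (MvPolynomial.C :
        Γ(X, U) →+* MvPolynomial σ Γ(X, U))) ≫ hU.fromSpec).appLE U ⊤ hle4 =
        hU.fromSpec.appLE U ⊤ hle2 ≫ (Spec.map (CommRingCat.ofHom (MvPolynomial.C :
        Γ(X, U) →+* MvPolynomial σ Γ(X, U)))).appTop := by
      rw [← Scheme.Hom.appLE_comp_appLE _ _ U ⊤ ⊤ hle2 le_top]
      congr 1
    have h11 : (Spec.map (CommRingCat.ofHom (MvPolynomial.C :
        Γ(X, U) →+* MvPolynomial σ Γ(X, U)))).appTop ≫ (Scheme.ΓSpecIso _).hom =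
        (Scheme.ΓSpecIso Γ(X, U)).hom ≫ CommRingCat.ofHom (MvPolynomial.C :
        Γ(X, U) →+* MvPolynomial σ Γ(X, U)) :=
      Scheme.ΓSpecIso_naturality (CommRingCat.ofHom (MvPolynomial.C :
        Γ(X, U) →+* MvPolynomial σ Γ(X, U)))
    calc q.app U ≫ e' = (q.app U ≫ j.appLE (q ⁻¹ᵁ U) ⊤ hle) ≫ (Scheme.ΓSpecIso _).hom := by
          rw [Category.assoc]
      _ = (hU.fromSpec.appLE U ⊤ hle2 ≫ (Spec.map (CommRingCat.ofHom (MvPolynomial.C :
        Γ(X, U) →+* MvPolynomial σ Γ(X, U)))).appTop) ≫ (Scheme.ΓSpecIso _).hom := by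
          rw [h6, h9 _ hj.w hle4, h10]
      _ = _ := by
          rw [Category.assoc, h11, ← Category.assoc, h7, Category.id_comp]
  refine ⟨(asIso e').commRingCatIsoToRingEquiv.symm, fun a => ?_, fun p s hs => ?_⟩
  · rw [RingEquiv.symm_apply_eq]
    exact (congrArg (fun φ : Γ(X, U) ⟶ CommRingCat.of (MvPolynomial σ Γ(X, U)) => φ.hom a)
      hcomp).symm
  · rw [RingEquiv.symm_apply_eq]
    have h12 : Y.presheaf.map (homOfLE (le_top : q ⁻¹ᵁ U ≤ ⊤)).op ≫ j.appLE (q ⁻¹ᵁ U) ⊤ hle = j.appTop := by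
      rw [Scheme.Hom.map_appLE]
      exact Scheme.Hom.appLE_eq_app _
    have h13 : j.appLE (q ⁻¹ᵁ U) ⊤ hle (Y.presheaf.map (homOfLE (le_top : q ⁻¹ᵁ U ≤ ⊤)).op s) =
        (Scheme.ΓSpecIso _).inv p := by
      rw [← hs]
      exact ConcreteCategory.congr_hom h12 s
    have h14 : e' (Y.presheaf.map (homOfLE (le_top : q ⁻¹ᵁ U ≤ ⊤)).op s) = p := by
      change (Scheme.ΓSpecIso _).hom (j.appLE (q ⁻¹ᵁ U) ⊤ hle
        (Y.presheaf.map (homOfLE (le_top : q ⁻¹ᵁ U ≤ ⊤)).op s)) = p
      rw [h13]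
      exact ConcreteCategory.congr_hom
        (Scheme.ΓSpecIso (CommRingCat.of (MvPolynomial σ Γ(X, U)))).inv_hom_id p
    exact h14.symm

/-- The functions on the affine space over an affine open. -/
theorem exists_equiv_coord (n : Type u) (X : Scheme.{u}) (U : X.Opens) (hU : IsAffineOpen U) :
    ∃ e : MvPolynomial n Γ(X, U) ≃+* Γ(𝔸(n; X), (𝔸(n; X) ↘ X) ⁻¹ᵁ U),
      (∀ a, e (MvPolynomial.C a) = ((𝔸(n; X) ↘ X).app U).hom a) ∧
      ∀ i, e (MvPolynomial.X i) = (𝔸(n; X)).presheaf.map
        (homOfLE (le_top : (𝔸(n; X) ↘ X) ⁻¹ᵁ U ≤ ⊤)).op (AffineSpace.coord X i) := by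
  have h1 := AffineSpace.isPullback_map (n := n) hU.fromSpec
  have hj : IsPullback ((AffineSpace.SpecIso n Γ(X, U)).inv ≫ AffineSpace.map n hU.fromSpec)
      (Spec.map (CommRingCat.ofHom MvPolynomial.C)) (𝔸(n; X) ↘ X) hU.fromSpec := by
    refine h1.of_iso (AffineSpace.SpecIso n Γ(X, U)) (Iso.refl _) (Iso.refl _) (Iso.refl _) ?_ ?_ ?_ ?_
    · simp
    · rw [Iso.refl_hom, Category.comp_id, ← AffineSpace.SpecIso_inv_over, Iso.hom_inv_id_assoc]
    · simp
    · simp
  obtain ⟨e, he, he'⟩ := exists_equiv_of_square (𝔸(n; X) ↘ X) hU _ hj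
  refine ⟨e, he, fun i => he' _ _ ?_⟩
  have h2 : ((AffineSpace.SpecIso n Γ(X, U)).inv ≫ AffineSpace.map n hU.fromSpec).appTop (AffineSpace.coord X i) =
      (AffineSpace.SpecIso n Γ(X, U)).inv.appTop ((AffineSpace.map n hU.fromSpec).appTop
        (AffineSpace.coord X i)) := rfl
  rw [h2, AffineSpace.map_appTop_coord]
  exact AffineSpace.SpecIso_inv_appTop_coord Γ(X, U) i

end K479.PolyCoord

end Coord
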