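import Groth.Agent.CycB.ModStalk
import Groth.Agent.Dcoh.FreeSec
import Groth.Agent.Ega2.TensGen
import Groth.Agent.Ega3B.CohTensor
import Groth.Agent.Fdesc.LocGenPullback
import Groth.Agent.Fdesc.PullbackSec
import Groth.Agent.Fga.GenIso
import Groth.Agent.FormalA.PullbackQC
import Groth.Agent.FormalA.Support
import Groth.Agent.IntSh.K877.TensBi
import Groth.Agent.IntSh.K878.KSup
import Groth.Agent.PerfC.FlatExact
import Groth.Prelude.Def_ClSub2
import Groth.Prelude.Def_KDet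
import Groth.Agent.IntSh.K479.PolyLin

/-!
# Cutting a coherent module by the universal section on the affine space

For `F` coherent on `X`, `L` invertible with inverse `M` and sections `t_1, …, t_n` generating `L`, the class
`[q^*F] - [q^*(F ⊗ M)]` on `A^n_X` is the class of the cokernel of the injective map given by the universal section
`∑ T_i t_i`.
-/

set_option autoImplicit false
universe u
open CategoryTheory CategoryTheory.Limits AlgebraicGeometry TopologicalSpace Opposite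
open Groth.Agent Groth.Agent.Ega2

namespace K479.CutLoc

open Groth.Agent.Fdesc.LocGen Groth.Agent.CycB.StalkExact

variable {X : Scheme.{u}} {n : ℕ} {L M : X.Modules}

/-- The components of a morphism from a free module. -/
noncomputable def comp (s : FlatMod.freeMod X n ⟶ L) (i : Fin n) : Coh.structureModule X ⟶ L :=
  Sigma.ι (fun _ : Fin n => Coh.structureModule X) i ≫ s

theorem sec_comp_top (s : FlatMod.freeMod X n ⟶ L) (i : Fin n) :
    sec (comp s i) ⊤ = s.app ⊤ (Dcoh.FreeSec.e X i) := rfl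

/-- One of finitely many generating sections generates near a given point. -/
theorem exists_mem_genLocus (hL : PicF.IsInvertible L) (s : FlatMod.freeMod X n ⟶ L) [Epi s] (x : X) :
    ∃ j : Fin n, x ∈ CohB1.genLocus L (comp s j) := by
  obtain ⟨U, e, hxU, -, -, he⟩ := TensGen.exists_affine_gen hL x (V := ⊤) trivial
  choose a ha using fun i => he.exists_eq (sec (comp s i) U)
  have hgen : CycB.ModStalk.IsGen L x (L.presheaf.germ U x hxU e) :=
    CycB.ModStalk.IsGenOn.isGen he x hxU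
  have hspan : L.presheaf.germ U x hxU e ∈ Submodule.span (X.presheaf.stalk x)
      (Set.range fun i : Fin n => X.presheaf.germ U x hxU (a i) • L.presheaf.germ U x hxU e) := by
    obtain ⟨f, hf⟩ := stalkLin_surjective s x (L.presheaf.germ U x hxU e)
    have h1 : f ∈ Submodule.span (X.presheaf.stalk x) (Set.range fun j : Fin n =>
      (FlatMod.freeMod X n).presheaf.germ ⊤ x trivial (Dcoh.FreeSec.e X j)) := by
      rw [Dcoh.FreeSec.span_stalk_free]
      trivial
    have h2 := Submodule.mem_map_of_mem (f := stalkLin s x) h1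
    rw [hf, Submodule.map_span, ← Set.range_comp] at h2
    convert h2 using 3
    funext i
    have h3 : stalkLin s x ((FlatMod.freeMod X n).presheaf.germ ⊤ x trivial (Dcoh.FreeSec.e X i)) =
        L.presheaf.germ ⊤ x trivial (sec (comp s i) ⊤) := stalkLin_germ (U := ⊤) s x trivial _
    refine Eq.trans ?_ h3.symm
    rw [← germ_smul, ← ha, ← res_sec (comp s i) (le_top : U ≤ ⊤)]
    exact TopCat.Presheaf.germ_res_apply L.presheaf (homOfLE le_top) x hxU _
  rw [Submodule.mem_span_range_iff_exists_fun] at hspan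
  obtain ⟨r, hr⟩ := hspan
  have h1 : ∑ i, r i * X.presheaf.germ U x hxU (a i) = 1 := by
    apply hgen.1
    change (∑ i, r i * X.presheaf.germ U x hxU (a i)) • L.presheaf.germ U x hxU e =
      (1 : X.presheaf.stalk x) • L.presheaf.germ U x hxU e
    rw [one_smul, Finset.sum_smul]
    conv_rhs => rw [← hr]
    exact Finset.sum_congr rfl fun i _ => mul_smul _ _ _
  obtain ⟨j, hj⟩ : ∃ j, IsUnit (X.presheaf.germ U x hxU (a j)) := by
    by_contra hcon
    push Not at hcon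
    have h2 : ∑ i, r i * X.presheaf.germ U x hxU (a i) ∈ IsLocalRing.maximalIdeal (X.presheaf.stalk x) :=
      Ideal.sum_mem _ fun i _ => Ideal.mul_mem_left _ _
        ((IsLocalRing.mem_maximalIdeal _).mpr (hcon i))
    rw [h1] at h2
    exact (Ideal.ne_top_iff_one _).mp (IsLocalRing.maximalIdeal.isMaximal _).ne_top h2
  refine ⟨j, ?_⟩
  have h3 := genLocus_inf_eq (comp s j) he (ha j)
  have h4 : x ∈ X.basicOpen (a j) := (Scheme.mem_basicOpen _ _ x hxU).mpr hj
  rw [← h3] at h4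
  exact h4.1

/-- The cosections. -/
noncomputable def tau (s : FlatMod.freeMod X n ⟶ L) (ρ : CohB1.tensorMod L M ≅ Coh.structureModule X)
    (i : Fin n) : M ⟶ Coh.structureModule X :=
  (Tens.lunit M).inv ≫ Tens.mapT (comp s i) (𝟙 M) ≫ ρ.hom

theorem tau_app (s : FlatMod.freeMod X n ⟶ L) (ρ : CohB1.tensorMod L M ≅ Coh.structureModule X)
    (i : Fin n) (U : X.Opens) (m : Γ(M, U)) :
    (tau s ρ i).app U m = ρ.hom.app U (tmul (sec (comp s i) U) m) := by
  change ρ.hom.app U ((Tens.mapT (comp s i) (𝟙 M)).app U ((Tens.lunit M).inv.app U m)) = _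
  rw [Tens.lunit_inv_app, Tens.mapT_tmul]
  rfl

/-- The local form of the cosections. -/
theorem exists_local (hL : PicF.IsInvertible L) (hM : PicF.IsInvertible M)
    (ρ : CohB1.tensorMod L M ≅ Coh.structureModule X) (s : FlatMod.freeMod X n ⟶ L) [Epi s] (x : X) :
    ∃ (j : Fin n) (U : X.Opens) (_ : x ∈ U) (e : Γ(M, U)) (c : Fin n → Γ(X, U)), IsAffineOpen U ∧ IsGen e ∧
      c j = 1 ∧ ∀ i, (tau s ρ i).app U e = ofFun (c i) := by
  obtain ⟨j, hj⟩ := exists_mem_genLocus hL s x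
  obtain ⟨U, e, hxU, hU, hUa, he⟩ := TensGen.exists_affine_gen hM x hj
  have ht : IsGen (sec (comp s j) U) := (le_genLocus_iff _ _).mp hU
  choose a ha using fun i => ht.exists_eq (sec (comp s i) U)
  have h1 : IsGen (ρ.hom.app U (tmul (sec (comp s j) U) e)) := (IsGen.tmul ht he).app ρ.hom
  obtain ⟨w, hw, hw'⟩ := (isGen_one U).exists_unit h1
  have hinv : hw.unit⁻¹.1 * w = 1 := hw.val_inv_mul
  refine ⟨j, U, hxU, hw.unit⁻¹.1 • e, a, hUa, he.unit_smul hw.unit⁻¹.isUnit, ?_, fun i => ?_⟩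
  · refine ht.ext ?_
    rw [one_smul]
    exact (ha j).symm
  · rw [Scheme.Modules.Hom.app_smul, tau_app, ha i, smul_tmul, Scheme.Modules.Hom.app_smul, hw',
      smul_smul, smul_smul, mul_right_comm, hinv, one_mul, ofFun_eq_smul]

end K479.CutLoc

namespace K479.CutMor

open Groth.Agent.Fdesc.LocGen Groth.Agent.CycB.StalkExact Groth.Agent.Fdesc Groth.Agent.Fga.GenIso

variable {X Y : Scheme.{u}} {n : ℕ} {M : X.Modules}

/-- `F ⊗ τ : F ⊗ M ⟶ F`. -/
noncomputable def theta (F : X.Modules) (τ : M ⟶ Coh.structureModule X) :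
    ((DCoh.tensorBi (X := X)).obj F).obj M ⟶ F :=
  ((DCoh.tensorBi (X := X)).obj F).map τ ≫ (Tens.runit F).hom

theorem theta_tmul (F : X.Modules) (τ : M ⟶ Coh.structureModule X) {U : X.Opens} {e : Γ(M, U)} {c : Γ(X, U)}
    (hc : τ.app U e = ofFun c) (f : Γ(F, U)) : (theta F τ).app U (tmul f e) = c • f := by
  have h1 : ((DCoh.tensorBi.obj F).map τ).app U (Tens.tmul f e) = Tens.tmul f (τ.app U e) :=
    IntSh.K877.TensBi.obj_map_tmul F τ U f e
  have h2 : (theta F τ).app U (tmul f e) =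
      (Tens.runit F).hom.app U (((DCoh.tensorBi.obj F).map τ).app U (Tens.tmul f e)) := rfl
  rw [h2, h1, hc]
  exact Tens.runit_hom_tmul c f

/-- The morphism `∑ T_i • q^*(F ⊗ τ_i)`. -/
noncomputable def phi (q : Y ⟶ X) (F : X.Modules) (τ : Fin n → (M ⟶ Coh.structureModule X)) (T : Fin n → Γ(Y, ⊤)) :
    (Scheme.Modules.pullback q).obj (((DCoh.tensorBi (X := X)).obj F).obj M) ⟶
      (Scheme.Modules.pullback q).obj F :=
  ∑ i, (Scheme.Modules.pullback q).map (theta F (τ i)) ≫ mulHom _ (T i)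

theorem sum_app {A B : Y.Modules} (φ : Fin n → (A ⟶ B)) (U : Y.Opens) (a : Γ(A, U)) :
    (∑ i, φ i).app U a = ∑ i, (φ i).app U a := by
  have h : ∀ s : Finset (Fin n), (∑ i ∈ s, φ i).app U a = ∑ i ∈ s, (φ i).app U a := by
    intro s
    induction s using Finset.induction_on with
    | empty => rw [Finset.sum_empty, Finset.sum_empty]; rfl
    | insert i s hi ih => rw [Finset.sum_insert hi, Finset.sum_insert hi, ← ih]; rfl
  exact h _

theorem phi_pullSec (q : Y ⟶ X) (F : X.Modules) (τ : Fin n → (M ⟶ Coh.structureModule X))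
    (T : Fin n → Γ(Y, ⊤)) {U : X.Opens} {e : Γ(M, U)} {c : Fin n → Γ(X, U)}
    (hc : ∀ i, (τ i).app U e = ofFun (c i)) (f : Γ(F, U)) :
    (phi q F τ T).app (q ⁻¹ᵁ U) (pullSec q (tmul f e)) =
      (∑ i, q.app U (c i) * ores (le_top : q ⁻¹ᵁ U ≤ ⊤) (T i)) • pullSec q f := by
  unfold phi
  rw [sum_app, Finset.sum_smul]
  refine Finset.sum_congr rfl fun i _ => ?_
  change (mulHom _ (T i)).app _ (((Scheme.Modules.pullback q).map (theta F (τ i))).app (q ⁻¹ᵁ U)
    (pullSec q (tmul f e))) = _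
  have h1 : ((Scheme.Modules.pullback q).map (theta F (τ i))).app (q ⁻¹ᵁ U) (pullSec q (tmul f e)) =
      pullSec q ((theta F (τ i)).app U (tmul f e)) := pullback_map_pullSec q (theta F (τ i)) (tmul f e)
  rw [h1, theta_tmul F (τ i) (hc i), mulHom_app, pullSec_smul, smul_smul, mul_comm]

theorem pullSec_eq (q : Y ⟶ X) (F : X.Modules) {U : X.Opens} (f : Γ(F, U)) :
    (PullbackSec.pullSec q (U := U) (V := q ⁻¹ᵁ U) le_rfl F) f = pullSec q f := by
  rw [PullbackSec.pullSec_apply]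
  change ((Scheme.Modules.pullback q).obj F).presheaf.map (𝟙 _) _ = _
  rw [CategoryTheory.Functor.map_id]
  rfl

/-- Injectivity on sections over the inverse image of an affine open. -/
theorem injective_phi_app (q : Y ⟶ X) {F : X.Modules} (hF : Coh.IsQCoh F) (hM : PicF.IsInvertible M)
    (τ : Fin n → (M ⟶ Coh.structureModule X)) (T : Fin n → Γ(Y, ⊤)) {U : X.Opens} (hU : IsAffineOpen U)
    (hV : IsAffineOpen (q ⁻¹ᵁ U)) {e : Γ(M, U)} (he : IsGen e) {c : Fin n → Γ(X, U)}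
    (hc : ∀ i, (τ i).app U e = ofFun (c i))
    (hΛ : letI := PullbackSec.secAlg q (U := U) (V := q ⁻¹ᵁ U) le_rfl
      ∃ Λ : Γ(Y, q ⁻¹ᵁ U) →ₗ[Γ(X, U)] Γ(Y, q ⁻¹ᵁ U), ∀ s,
        Λ ((∑ i, q.app U (c i) * ores (le_top : q ⁻¹ᵁ U ≤ ⊤) (T i)) * s) = s) :
    Function.Injective ((phi q F τ T).app (q ⁻¹ᵁ U)) := by
  have hFM : Coh.IsQCoh (((DCoh.tensorBi (X := X)).obj F).obj M) := TensGen.isQCoh_tensor hF hM
  have hF' := Groth.Agent.FormalA.PullbackQC.isQCoh_pullback q F hF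
  have hFM' := Groth.Agent.FormalA.PullbackQC.isQCoh_pullback q _ hFM
  let iA : Algebra Γ(X, U) Γ(Y, q ⁻¹ᵁ U) := PullbackSec.secAlg q (U := U) (V := q ⁻¹ᵁ U) le_rfl
  let i1 : Module Γ(X, U) Γ((Scheme.Modules.pullback q).obj F, q ⁻¹ᵁ U) :=
    PullbackSec.secModule q (U := U) (V := q ⁻¹ᵁ U) le_rfl ((Scheme.Modules.pullback q).obj F)
  let i1' : Module Γ(X, U) Γ((Scheme.Modules.pullback q).obj (((DCoh.tensorBi (X := X)).obj F).obj M), q ⁻¹ᵁ U) :=
    PullbackSec.secModule q (U := U) (V := q ⁻¹ᵁ U) le_rfl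
      ((Scheme.Modules.pullback q).obj (((DCoh.tensorBi (X := X)).obj F).obj M))
  have i2 := PullbackSec.isScalarTower_sec q (U := U) (V := q ⁻¹ᵁ U) le_rfl ((Scheme.Modules.pullback q).obj F)
  have i2' := PullbackSec.isScalarTower_sec q (U := U) (V := q ⁻¹ᵁ U) le_rfl
    ((Scheme.Modules.pullback q).obj (((DCoh.tensorBi (X := X)).obj F).obj M))
  have hb := PullbackSec.isBaseChange_pullSec q (U := U) (V := q ⁻¹ᵁ U) le_rfl hU hV F hF hF'
  have hb' := PullbackSec.isBaseChange_pullSec q (U := U) (V := q ⁻¹ᵁ U) le_rfl hU hV _ hFM hFM'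
  let ε : Γ(F, U) ≃ₗ[Γ(X, U)] Γ(((DCoh.tensorBi (X := X)).obj F).obj M, U) :=
    LinearEquiv.ofBijective
      { toFun := fun f => (tmul f e : Γ(CohB1.tensorMod F M, U))
        map_add' := fun f g => add_tmul f g e
        map_smul' := fun a f => smul_tmul a f e } (TensGen.tmul_gen_bijective he)
  let φ : Γ((Scheme.Modules.pullback q).obj (((DCoh.tensorBi (X := X)).obj F).obj M), q ⁻¹ᵁ U) →ₗ[Γ(Y, q ⁻¹ᵁ U)]
      Γ((Scheme.Modules.pullback q).obj F, q ⁻¹ᵁ U) :=
    { toFun := fun a => (phi q F τ T).app (q ⁻¹ᵁ U) a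
      map_add' := fun a b => map_add _ a b
      map_smul' := fun r a => Scheme.Modules.Hom.app_smul _ r a }
  exact CutAlg.injective_of_leftInverse (R := Γ(X, U)) (S := Γ(Y, q ⁻¹ᵁ U)) hΛ (hb'.comp_equiv ε _) hb φ fun f => by
    have h1 := phi_pullSec q F τ T hc f
    have h2 := pullSec_eq q (((DCoh.tensorBi (X := X)).obj F).obj M) (ε f)
    have h3 := pullSec_eq q F f
    change (phi q F τ T).app (q ⁻¹ᵁ U) ((PullbackSec.pullSec q (U := U) (V := q ⁻¹ᵁ U) le_rfl _) (ε f)) =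
      _ • (PullbackSec.pullSec q (U := U) (V := q ⁻¹ᵁ U) le_rfl F) f
    rw [h2, h3]
    exact h1

end K479.CutMor

namespace K479.Cut

open Groth.Agent.Fdesc.LocGen Groth.Agent.CycB.StalkExact Groth.Agent.Fdesc Groth.Agent.Fga.GenIso
open CutLoc CutMor K878.KSup

variable {X Y : Scheme.{u}} {n : ℕ} {L M : X.Modules}

/-- A morphism of quasi-coherent modules injective on the sections over an affine open is injective on stalks. -/
theorem stalk_injective_of_app {A B : Y.Modules} (φ : A ⟶ B) (hA : Coh.IsQCoh A) (hB : Coh.IsQCoh B)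
    {V : Y.Opens} (hV : IsAffineOpen V) (h : Function.Injective (φ.app V)) (y : Y) (hy : y ∈ V) :
    Function.Injective (stalkLin φ y) := by
  rw [injective_iff_map_eq_zero]
  intro t ht
  obtain ⟨g, s, hg, hs⟩ := QCohStalk.exists_germ_eq_smul A hV hA y hy t
  have hu : IsUnit (Y.presheaf.germ V y hy g) := (Y.mem_basicOpen g y hy).mp hg
  have h1 : B.presheaf.germ V y hy (φ.app V s) = 0 := by
    rw [← stalkLin_germ, hs, map_smul, ht, smul_zero]
  obtain ⟨g', hg', h2⟩ := QCohStalk.exists_smul_eq_zero_of_germ_eq_zero B hV hB y hy _ h1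
  have hu' : IsUnit (Y.presheaf.germ V y hy g') := (Y.mem_basicOpen g' y hy).mp hg'
  have h3 : g' • s = 0 := by
    apply h
    rw [map_zero]
    exact (Scheme.Modules.Hom.app_smul φ g' s).trans h2
  have h4 : (Y.presheaf.germ V y hy g' * Y.presheaf.germ V y hy g) • t = 0 := by
    rw [mul_smul, ← hs, ← CycB.StalkExact.germ_smul, h3, map_zero]
  exact (hu'.mul hu).smul_eq_zero.mp h4

/-- On stalks. -/
theorem stalkLin_phi (q : Y ⟶ X) (F : X.Modules) (τ : Fin n → (M ⟶ Coh.structureModule X))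
    (T : Fin n → Γ(Y, ⊤)) {U : X.Opens} {e : Γ(M, U)} {c : Fin n → Γ(X, U)}
    (hc : ∀ i, (τ i).app U e = ofFun (c i)) (y : Y) (hy : q y ∈ U) (f : Γ(F, U)) :
    ∃ t, stalkLin (phi q F τ T) y t =
      Y.presheaf.germ (q ⁻¹ᵁ U) y hy (∑ i, q.app U (c i) * ores (le_top : q ⁻¹ᵁ U ≤ ⊤) (T i)) •
        PullbackStalk.canAdd q F y (F.presheaf.germ U (q y) hy f) := by
  refine ⟨((Scheme.Modules.pullback q).obj (((DCoh.tensorBi (X := X)).obj F).obj M)).presheaf.germ
    (q ⁻¹ᵁ U) y hy (pullSec q (M := ((DCoh.tensorBi (X := X)).obj F).obj M) (tmul f e)), ?_⟩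
  have h1 := congrArg (((Scheme.Modules.pullback q).obj F).presheaf.germ (q ⁻¹ᵁ U) y hy)
    (phi_pullSec q F τ T hc f)
  refine (stalkLin_germ (U := q ⁻¹ᵁ U) (phi q F τ T) y hy _).trans (h1.trans ?_)
  rw [PullbackStalk.canAdd_germ]
  exact CycB.StalkExact.germ_smul (U := q ⁻¹ᵁ U) y hy _ _

/-- Surjectivity at a point where the universal section is a unit. -/
theorem stalk_surjective_of_isUnit (q : Y ⟶ X) (F : X.Modules) (τ : Fin n → (M ⟶ Coh.structureModule X))
    (T : Fin n → Γ(Y, ⊤)) {U : X.Opens} {e : Γ(M, U)} {c : Fin n → Γ(X, U)}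
    (hc : ∀ i, (τ i).app U e = ofFun (c i)) (y : Y) (hy : q y ∈ U)
    (hu : IsUnit (Y.presheaf.germ (q ⁻¹ᵁ U) y hy (∑ i, q.app U (c i) * ores (le_top : q ⁻¹ᵁ U ≤ ⊤) (T i)))) :
    Function.Surjective (stalkLin (phi q F τ T) y) := by
  rw [← LinearMap.range_eq_top, eq_top_iff, ← PullbackStalk.span_range_canAdd q F y, Submodule.span_le]
  rintro _ ⟨t, rfl⟩
  obtain ⟨W, hW, f, rfl⟩ := F.presheaf.exists_germ_eq t
  have hyW : q y ∈ W ⊓ U := ⟨hW, hy⟩
  have hc' : ∀ i, (τ i).app (W ⊓ U) (res M inf_le_right e) = ofFun (ores inf_le_right (c i)) := fun i => by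
    rw [app_res, hc i, res_ofFun]
  obtain ⟨b, hb⟩ := stalkLin_phi q F τ T hc' y hyW (res F inf_le_left f)
  have h1 : F.presheaf.germ (W ⊓ U) (q y) hyW (res F inf_le_left f) = F.presheaf.germ W (q y) hW f :=
    TopCat.Presheaf.germ_res_apply F.presheaf (homOfLE inf_le_left) (q y) hyW f
  have hle : q ⁻¹ᵁ (W ⊓ U) ≤ q ⁻¹ᵁ U := q.preimage_mono inf_le_right
  have h2 : Y.presheaf.germ (q ⁻¹ᵁ (W ⊓ U)) y hyW (∑ i, q.app (W ⊓ U) (ores inf_le_right (c i)) *
      ores (le_top : q ⁻¹ᵁ (W ⊓ U) ≤ ⊤) (T i)) =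
      Y.presheaf.germ (q ⁻¹ᵁ U) y hy (∑ i, q.app U (c i) * ores (le_top : q ⁻¹ᵁ U ≤ ⊤) (T i)) := by
    have h3 : (∑ i, q.app (W ⊓ U) (ores inf_le_right (c i)) * ores (le_top : q ⁻¹ᵁ (W ⊓ U) ≤ ⊤) (T i)) =
        ores hle (∑ i, q.app U (c i) * ores (le_top : q ⁻¹ᵁ U ≤ ⊤) (T i)) := by
      rw [map_sum]
      refine Finset.sum_congr rfl fun i _ => ?_
      rw [map_mul, ores_ores]
      congr 1
      exact ConcreteCategory.congr_hom (q.naturality (homOfLE (inf_le_right : W ⊓ U ≤ U)).op) (c i)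
    rw [h3]
    exact TopCat.Presheaf.germ_res_apply Y.presheaf (homOfLE hle) y hyW _
  rw [h1, h2] at hb
  obtain ⟨v, hv⟩ := hu
  refine ⟨v⁻¹.1 • b, ?_⟩
  rw [map_smul, hb, ← hv, smul_smul, v.inv_mul, one_smul]

section Affine

/-- The affine space. -/
noncomputable abbrev Aff (n : ℕ) (X : Scheme.{u}) : Scheme.{u} := 𝔸(ULift.{u} (Fin n); X)

/-- The projection. -/
noncomputable abbrev qn (n : ℕ) (X : Scheme.{u}) : Aff n X ⟶ X := 𝔸(ULift.{u} (Fin n); X) ↘ X

/-- The coordinates. -/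
noncomputable abbrev Tn (n : ℕ) (X : Scheme.{u}) (i : Fin n) : Γ(Aff n X, ⊤) := AffineSpace.coord X (ULift.up i)

theorem exists_leftInverse {U : X.Opens} (hU : IsAffineOpen U) (c : Fin n → Γ(X, U)) (j : Fin n) (hj : c j = 1) :
    letI := PullbackSec.secAlg (qn n X) (U := U) (V := (qn n X) ⁻¹ᵁ U) le_rfl
    ∃ Λ : Γ(Aff n X, (qn n X) ⁻¹ᵁ U) →ₗ[Γ(X, U)] Γ(Aff n X, (qn n X) ⁻¹ᵁ U), ∀ s,
      Λ ((∑ i, (qn n X).app U (c i) * ores (le_top : (qn n X) ⁻¹ᵁ U ≤ ⊤) (Tn n X i)) * s) = s := by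
  let iA := PullbackSec.secAlg (qn n X) (U := U) (V := (qn n X) ⁻¹ᵁ U) le_rfl
  obtain ⟨e, he, he'⟩ := PolyCoord.exists_equiv_coord (ULift.{u} (Fin n)) X U hU
  have hAlg : ∀ a, algebraMap Γ(X, U) Γ(Aff n X, (qn n X) ⁻¹ᵁ U) a = (qn n X).app U a := fun a => by
    change (qn n X).appLE U ((qn n X) ⁻¹ᵁ U) le_rfl a = _
    rw [Scheme.Hom.appLE_eq_app]
  obtain ⟨Λ, hΛ⟩ := CutAlg.exists_leftInverse_of_equiv e (fun a => (he a).trans (hAlg a).symm)
    (fun i => c i.down) (ULift.up j) hj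
  refine ⟨Λ, fun s => ?_⟩
  have h1 : (∑ i, (qn n X).app U (c i) * ores (le_top : (qn n X) ⁻¹ᵁ U ≤ ⊤) (Tn n X i)) =
      ∑ i : ULift.{u} (Fin n), algebraMap Γ(X, U) Γ(Aff n X, (qn n X) ⁻¹ᵁ U) (c i.down) *
        e (MvPolynomial.X i) := by
    rw [← Equiv.ulift.symm.sum_comp]
    refine Finset.sum_congr rfl fun i _ => ?_
    rw [he', hAlg]
    rfl
  rw [h1]
  exact hΛ s

/-- The morphism given by the universal section is a monomorphism. -/
theorem mono_phi (hL : PicF.IsInvertible L) (hM : PicF.IsInvertible M)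
    (ρ : CohB1.tensorMod L M ≅ Coh.structureModule X) (s : FlatMod.freeMod X n ⟶ L) [Epi s]
    {F : X.Modules} (hF : Coh.IsQCoh F) : Mono (phi (qn n X) F (tau s ρ) (Tn n X)) := by
  rw [PerfC.FlatExact.mono_iff_stalkLin]
  intro y
  obtain ⟨j, U, hU, e, c, hUa, he, hcj, hc⟩ := exists_local hL hM ρ s ((qn n X) y)
  have hV := (K654.PolyMap.isPoly_affineSpace (ULift.{u} (Fin n)) X).affine U hUa
  refine stalk_injective_of_app _ (Groth.Agent.FormalA.PullbackQC.isQCoh_pullback _ _ (TensGen.isQCoh_tensor hF hM))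
    (Groth.Agent.FormalA.PullbackQC.isQCoh_pullback _ F hF) hV ?_ y hU
  exact injective_phi_app (qn n X) hF hM (tau s ρ) (Tn n X) hUa hV he hc (exists_leftInverse hUa c j hcj)

/-- The section of the projection with the `j`-th coordinate one and the others zero. -/
noncomputable def sectionAt (j : Fin n) : X ⟶ Aff n X :=
  AffineSpace.homOfVector (𝟙 X) (fun i => if i = ULift.up j then 1 else 0)

theorem sectionAt_comp (j : Fin n) : sectionAt (X := X) j ≫ qn n X = 𝟙 X :=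
  AffineSpace.homOfVector_over _ _

theorem qn_sectionAt (j : Fin n) (x : X) : (qn n X) (sectionAt j x) = x :=
  congr(($(sectionAt_comp (X := X) j)) x)

theorem isUnit_germ (j : Fin n) (x : X) {U : X.Opens} (hx : (qn n X) (sectionAt j x) ∈ U) (c : Fin n → Γ(X, U))
    (hj : c j = 1) :
    IsUnit ((Aff n X).presheaf.germ ((qn n X) ⁻¹ᵁ U) (sectionAt j x) hx
      (∑ i, (qn n X).app U (c i) * ores (le_top : (qn n X) ⁻¹ᵁ U ≤ ⊤) (Tn n X i))) := by
  rw [← isUnit_map_iff ((sectionAt (X := X) j).stalkMap x).hom]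
  have h1 : ∀ i, ((sectionAt (X := X) j).stalkMap x).hom ((Aff n X).presheaf.germ ((qn n X) ⁻¹ᵁ U)
      (sectionAt j x) hx (ores (le_top : (qn n X) ⁻¹ᵁ U ≤ ⊤) (Tn n X i))) = if i = j then 1 else 0 := by
    intro i
    have h2 : (Aff n X).presheaf.germ ((qn n X) ⁻¹ᵁ U) (sectionAt j x) hx
        (ores (le_top : (qn n X) ⁻¹ᵁ U ≤ ⊤) (Tn n X i)) =
        (Aff n X).presheaf.germ ⊤ (sectionAt j x) trivial (Tn n X i) :=
      TopCat.Presheaf.germ_res_apply (Aff n X).presheaf (homOfLE le_top) (sectionAt j x) hx _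
    rw [h2]
    have h3 := ConcreteCategory.congr_hom (Scheme.Hom.germ_stalkMap (sectionAt (X := X) j) ⊤ x trivial)
      (Tn n X i)
    refine Eq.trans h3 ?_
    have h4 : (sectionAt (X := X) j).appTop (Tn n X i) = if i = j then 1 else 0 := by
      have := AffineSpace.homOfVector_appTop_coord (𝟙 X)
        (fun i : ULift.{u} (Fin n) => if i = ULift.up j then (1 : Γ(X, ⊤)) else 0) (ULift.up i)
      refine this.trans ?_
      by_cases h : i = j
      · subst h; simp
      · rw [if_neg h, if_neg]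
        exact fun h' => h (ULift.up_injective h')
    change X.presheaf.germ ⊤ x trivial ((sectionAt (X := X) j).appTop (Tn n X i)) = _
    rw [h4]
    split_ifs
    · exact map_one _
    · exact map_zero _
  have h5 : ((sectionAt (X := X) j).stalkMap x).hom ((Aff n X).presheaf.germ ((qn n X) ⁻¹ᵁ U) (sectionAt j x) hx
      (∑ i, (qn n X).app U (c i) * ores (le_top : (qn n X) ⁻¹ᵁ U ≤ ⊤) (Tn n X i))) = 1 := by
    rw [map_sum, map_sum, Finset.sum_eq_single j]
    · rw [map_mul, map_mul, h1, if_pos rfl, mul_one, hj, map_one, map_one, map_one]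
    · intro i _ hi
      rw [map_mul, map_mul, h1, if_neg hi, mul_zero]
    · intro h
      exact absurd (Finset.mem_univ _) h
  rw [h5]
  exact isUnit_one

end Affine

theorem sub_of_mono {Y : Scheme.{u}} [IsLocallyNoetherian Y] {A B : Y.Modules} (f : A ⟶ B) [Mono f]
    (hA : Coh.IsCoh A) (hB : Coh.IsCoh B) : KDet.clc Y B - KDet.clc Y A = KDet.clc Y (cokernel f) := by
  rw [clc_sub_clc f hA hB, clc_isZero (isZero_kernel_of_mono f), sub_zero]

/-- **Cutting by the universal section.** -/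
theorem exists_cut {n : ℕ} {X : Scheme.{u}} [AlgebraicGeometry.IsNoetherian X] {L M : X.Modules}
    (hL : PicF.IsInvertible L) (hM : PicF.IsInvertible M) (hLM : ClSub.IsInverseOf L M)
    (s : FlatMod.freeMod X n ⟶ L) [Epi s] {F : X.Modules} (hF : Coh.IsCoh F) :
    ∃ F₁ : (𝔸(ULift.{u} (Fin n); X)).Modules, Coh.IsCoh F₁ ∧
      KDet.clc _ F₁ =
        KDet.clc _ ((Scheme.Modules.pullback (𝔸(ULift.{u} (Fin n); X) ↘ X)).obj F) -
          KDet.clc _ ((Scheme.Modules.pullback (𝔸(ULift.{u} (Fin n); X) ↘ X)).obj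
            (((DCoh.tensorBi (X := X)).obj F).obj M)) ∧
      (∀ z ∈ CohB1.support F₁, (𝔸(ULift.{u} (Fin n); X) ↘ X) z ∈ CohB1.support F) ∧
      ∀ z ∈ CohB1.support F₁, ∃ z', (𝔸(ULift.{u} (Fin n); X) ↘ X) z' =
        (𝔸(ULift.{u} (Fin n); X) ↘ X) z ∧ ¬ z ⤳ z' := by
  obtain ⟨ρ⟩ := hLM
  have hN : IsLocallyNoetherian (Aff n X) := LocallyOfFiniteType.isLocallyNoetherian (qn n X)
  let φ := phi (qn n X) F (tau s ρ) (Tn n X)
  have hmono : Mono φ := mono_phi hL hM ρ s hF.1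
  have hFM : Coh.IsCoh (((DCoh.tensorBi (X := X)).obj F).obj M) := Ega3B.CohTensor.isCoh_tensor hF hM
  have hA := Groth.Agent.FormalA.PullbackQC.isCoh_pullback (qn n X) _ hFM
  have hB := Groth.Agent.FormalA.PullbackQC.isCoh_pullback (qn n X) _ hF
  have hC : Coh.IsCoh (cokernel φ) := Sga67.CohBasic.isCoh_cokernel φ hA.1 hB
  refine ⟨cokernel φ, hC, (sub_of_mono φ hA hB).symm, fun z hz => ?_, fun z hz => ?_⟩
  · exact FormalA.Support.support_pullback_subset (qn n X) F hF.2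
      (CohqB.DevSupport.support_subset_of_epi (cokernel.π φ) hz)
  · obtain ⟨j, U, hU, e, c, hUa, he, hcj, hc⟩ := exists_local hL hM ρ s ((qn n X) z)
    refine ⟨sectionAt j ((qn n X) z), qn_sectionAt j _, fun hspec => ?_⟩
    have hcl : IsClosed (CohB1.support (cokernel φ)) := FormalA.Support.isClosed_support _ hC.2
    have hmem : sectionAt j ((qn n X) z) ∈ CohB1.support (cokernel φ) := hspec.mem_closed hcl hz
    have hU' : (qn n X) (sectionAt j ((qn n X) z)) ∈ U := by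
      rw [qn_sectionAt]
      exact hU
    have hsurj : Function.Surjective (stalkLin φ (sectionAt j ((qn n X) z))) :=
      stalk_surjective_of_isUnit (qn n X) F (tau s ρ) (Tn n X) hc _ hU' (isUnit_germ j _ hU' c hcj)
    refine (CohqB.DevSupport.not_mem_support_iff _ _).mpr ?_ hmem
    have hex : (ShortComplex.mk φ (cokernel.π φ) (cokernel.condition φ)).Exact :=
      ShortComplex.exact_of_g_is_cokernel _ (cokernelIsCokernel φ)
    have h1 := stalkLin_exact _ hex (sectionAt j ((qn n X) z))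
    have h2 := stalkLin_surjective (cokernel.π φ) (sectionAt j ((qn n X) z))
    refine subsingleton_of_forall_eq 0 fun a => ?_
    obtain ⟨b, rfl⟩ := h2 a
    exact (h1 b).mpr (hsurj b)

end K479.Cut
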